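import Mathlib
import Cfsg.Prelude.Def_Characters
import Cfsg.Prelude.Def_ParabolicCharacters
import Cfsg.Agent.Lib.Induced.Basic
import Cfsg.Agent.Lib.Induced.Character
import Cfsg.Agent.Lib.Characters.Diag

/-!
GL₂(q): the Borel subgroup, the functions induced from its linear characters, their values on the
Borel subgroup and their inner products.
-/

set_option autoImplicit false
set_option linter.unusedSectionVars false

namespace Cfsg.Agent.Lib.GL2Chars37

open Cfsg.Agent.Lib.Induced.Basic
open scoped ComplexConjugate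

variable {F : Type*} [Field F]

local notation "GL2" => Matrix.GeneralLinearGroup (Fin 2) F

/-- `!![a, b; c, d]` as an element of GL₂. -/
noncomputable def mk2 (a b c d : F) (h : a * d - b * c ≠ 0) : Matrix.GeneralLinearGroup (Fin 2) F :=
  Matrix.GeneralLinearGroup.mkOfDetNeZero !![a, b; c, d] (by simpa [Matrix.det_fin_two] using h)

@[simp] theorem mk2_00 (a b c d : F) (h : a * d - b * c ≠ 0) : (mk2 a b c d h).val 0 0 = a := rfl
@[simp] theorem mk2_01 (a b c d : F) (h : a * d - b * c ≠ 0) : (mk2 a b c d h).val 0 1 = b := rfl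
@[simp] theorem mk2_10 (a b c d : F) (h : a * d - b * c ≠ 0) : (mk2 a b c d h).val 1 0 = c := rfl
@[simp] theorem mk2_11 (a b c d : F) (h : a * d - b * c ≠ 0) : (mk2 a b c d h).val 1 1 = d := rfl

theorem gl_ext {g h : GL2} (e00 : g.val 0 0 = h.val 0 0) (e01 : g.val 0 1 = h.val 0 1)
    (e10 : g.val 1 0 = h.val 1 0) (e11 : g.val 1 1 = h.val 1 1) : g = h := by
  apply Units.ext
  ext i j
  fin_cases i <;> fin_cases j <;> assumption

theorem mul_val (g h : GL2) (i j : Fin 2) :
    (g * h).val i j = g.val i 0 * h.val 0 j + g.val i 1 * h.val 1 j := by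
  rw [Units.val_mul, Matrix.mul_apply, Fin.sum_univ_two]

theorem one_val (i j : Fin 2) : (1 : GL2).val i j = if i = j then 1 else 0 := by
  rw [Units.val_one, Matrix.one_apply]

theorem det_ne (g : GL2) : g.val 0 0 * g.val 1 1 - g.val 0 1 * g.val 1 0 ≠ 0 := by
  have := Matrix.GeneralLinearGroup.det_ne_zero g
  rwa [Matrix.det_fin_two] at this

theorem mem_B {g : GL2} : g ∈ Cfsg.upperTriangularGL 2 F ↔ g.val 1 0 = 0 := by
  change Matrix.BlockTriangular g.val id ↔ _
  constructor
  · intro h
    exact h (show (0 : Fin 2) < 1 by decide)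
  · intro h i j hij
    fin_cases i <;> fin_cases j <;> first | exact h | exact absurd hij (by decide)

theorem diag_ne_zero {g : GL2} (hg : g.val 1 0 = 0) : g.val 0 0 ≠ 0 ∧ g.val 1 1 ≠ 0 := by
  have := det_ne g
  rw [hg, mul_zero, sub_zero] at this
  exact mul_ne_zero_iff.mp this

/-- An element of the Borel subgroup from its parameters. -/
noncomputable def mB (a d : Fˣ) (b : F) : Matrix.GeneralLinearGroup (Fin 2) F :=
  mk2 (a : F) b 0 (d : F) (by simp)

theorem mB_mem (a d : Fˣ) (b : F) : mB a d b ∈ Cfsg.upperTriangularGL 2 F := mem_B.mpr (by simp [mB])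

/-- Parameters of the Borel subgroup. -/
noncomputable def borelEquiv : Fˣ × Fˣ × F ≃ Cfsg.upperTriangularGL 2 F where
  toFun p := ⟨mB p.1 p.2.1 p.2.2, mB_mem _ _ _⟩
  invFun g := (Units.mk0 (g.1.val 0 0) (diag_ne_zero (mem_B.mp g.2)).1,
    Units.mk0 (g.1.val 1 1) (diag_ne_zero (mem_B.mp g.2)).2, g.1.val 0 1)
  left_inv p := by
    refine Prod.ext (Units.ext ?_) (Prod.ext (Units.ext ?_) ?_) <;> simp [mB]
  right_inv g := by
    refine Subtype.ext (gl_ext ?_ ?_ ?_ ?_) <;> simp [mB, mem_B.mp g.2]

theorem borelEquiv_val (p : Fˣ × Fˣ × F) : (borelEquiv p).1 = mB p.1 p.2.1 p.2.2 := rfl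

/-- Coset representatives of the Borel subgroup. -/
noncomputable def rep : Option F → Matrix.GeneralLinearGroup (Fin 2) F
  | none => mk2 0 1 (-1) 0 (by simp)
  | some c => mk2 1 0 c 1 (by simp)

theorem rep_inv_some (c : F) : (rep (some c))⁻¹ = mk2 1 0 (-c) 1 (by simp) :=
  inv_eq_of_mul_eq_one_right (by apply gl_ext <;> simp [rep, mul_val, one_val])

theorem rep_inv_none : (rep (none : Option F))⁻¹ = mk2 0 (-1) 1 0 (by simp) :=
  inv_eq_of_mul_eq_one_right (by apply gl_ext <;> simp [rep, mul_val, one_val])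

theorem rep_bijective :
    Function.Bijective fun p : Option F × Cfsg.upperTriangularGL 2 F => rep p.1 * p.2.1 := by
  constructor
  · rintro ⟨o, b⟩ ⟨o', b'⟩ h
    simp only at h
    have h1 : (rep o)⁻¹ * rep o' ∈ Cfsg.upperTriangularGL 2 F := by
      have : (rep o)⁻¹ * rep o' = b.1 * b'.1⁻¹ := by
        rw [eq_mul_inv_iff_mul_eq, mul_assoc, ← h, inv_mul_cancel_left]
      rw [this]
      exact mul_mem b.2 (inv_mem b'.2)
    rw [mem_B] at h1
    have ho : o = o' := by
      rcases o with _ | c <;> rcases o' with _ | d <;>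
        simp [rep_inv_some, rep_inv_none, mul_val] at h1 ⊢ <;> simp [rep] at h1 ⊢
      linear_combination -h1
    subst ho
    simp only [mul_right_inj] at h
    rw [Subtype.ext h]
  · intro x
    by_cases hx : x.val 0 0 = 0
    · refine ⟨(none, ⟨(rep none)⁻¹ * x, ?_⟩), mul_inv_cancel_left _ _⟩
      rw [mem_B, rep_inv_none]
      simp [mul_val, hx]
    · refine ⟨(some (x.val 1 0 / x.val 0 0), ⟨(rep (some (x.val 1 0 / x.val 0 0)))⁻¹ * x, ?_⟩),
        mul_inv_cancel_left _ _⟩
      rw [mem_B, rep_inv_some]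
      simp [mul_val, div_mul_cancel₀ _ hx]

/-- The linear function `b ↦ α(b₁₁) β(b₂₂)` on the Borel subgroup. -/
noncomputable def lin (α β : MulChar F ℂ) :
    Cfsg.upperTriangularGL 2 F → ℂ :=
  fun b => α (((b : Matrix.GeneralLinearGroup (Fin 2) F) : Matrix (Fin 2) (Fin 2) F) 0 0) *
    β (((b : Matrix.GeneralLinearGroup (Fin 2) F) : Matrix (Fin 2) (Fin 2) F) 1 1)

theorem lin_mul (α β : MulChar F ℂ) (x y : Cfsg.upperTriangularGL 2 F) :
    lin α β (x * y) = lin α β x * lin α β y := by
  simp only [lin, Subgroup.coe_mul, mul_val, mem_B.mp x.2, mem_B.mp y.2, mul_zero, add_zero,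
    zero_mul, zero_add, map_mul]
  ring

theorem lin_one (α β : MulChar F ℂ) : lin α β 1 = 1 := by
  simp [lin, one_val]

theorem lin_isClassFunction (α β : MulChar F ℂ) :
    Cfsg.IsClassFunction (Cfsg.upperTriangularGL 2 F) (lin α β) := by
  intro g h
  rw [lin_mul, lin_mul, mul_comm (lin α β h), mul_assoc, ← lin_mul, mul_inv_cancel, lin_one, mul_one]

section Finite

variable [Fintype F] [DecidableEq F]

/-- The principal series function. -/
noncomputable def ps (α β : MulChar F ℂ) : Matrix.GeneralLinearGroup (Fin 2) F → ℂ :=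
  Cfsg.indFun (Cfsg.upperTriangularGL 2 F) (lin α β)

/-- The linear character of the Borel subgroup as a homomorphism. -/
noncomputable def linHom (α β : MulChar F ℂ) : Cfsg.upperTriangularGL 2 F →* ℂˣ :=
  MonoidHom.toHomUnits { toFun := lin α β, map_one' := lin_one α β, map_mul' := lin_mul α β }

theorem isCharacter_ps (α β : MulChar F ℂ) : Cfsg.IsCharacter GL2 (ps α β) :=
  Induced.Character.isCharacter_indFun (Cfsg.upperTriangularGL 2 F) (θ := lin α β)
    (Induced.Character.isCharacter_hom (linHom α β))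

theorem classFun_ps (α β : MulChar F ℂ) : Cfsg.IsClassFunction GL2 (ps α β) :=
  isClassFunction_indFun _ _

theorem card_B : Nat.card (Cfsg.upperTriangularGL 2 F) =
    (Fintype.card F - 1) * ((Fintype.card F - 1) * Fintype.card F) := by
  rw [← Nat.card_congr (borelEquiv (F := F)), Nat.card_prod, Nat.card_prod, Nat.card_units,
    Nat.card_eq_fintype_card]

theorem ext_lin (α β : MulChar F ℂ) (g : GL2) :
    Cfsg.extendByZero (Cfsg.upperTriangularGL 2 F) (lin α β) g =
      if g.val 1 0 = 0 then α (g.val 0 0) * β (g.val 1 1) else 0 := by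
  split_ifs with h
  · rw [extendByZero_of_mem _ _ (mem_B.mpr h)]
    rfl
  · rw [extendByZero_of_not_mem _ _ (fun hg => h (mem_B.mp hg))]

/-- The induced function in coordinates. -/
theorem ps_eq (α β : MulChar F ℂ) (g : GL2) :
    ps α β g =
      (if g.val 0 1 = 0 then α (g.val 1 1) * β (g.val 0 0) else 0) +
        ∑ c : F, if g.val 1 0 + c * (g.val 1 1 - g.val 0 0) - c ^ 2 * g.val 0 1 = 0 then
          α (g.val 0 0 + g.val 0 1 * c) * β (g.val 1 1 - c * g.val 0 1) else 0 := by
  classical
  simp only [ps, Cfsg.indFun]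
  rw [← (rep_bijective (F := F)).sum_comp, Fintype.sum_prod_type]
  have key : ∀ (o : Option F) (b : Cfsg.upperTriangularGL 2 F),
      Cfsg.extendByZero _ (lin α β) ((rep o * b.1)⁻¹ * g * (rep o * b.1)) =
        Cfsg.extendByZero _ (lin α β) ((rep o)⁻¹ * g * rep o) := by
    intro o b
    rw [show (rep o * b.1)⁻¹ * g * (rep o * b.1) = b.1⁻¹ * ((rep o)⁻¹ * g * rep o) * (b.1⁻¹)⁻¹ by group]
    exact extendByZero_conj_of_mem _ (lin_isClassFunction α β) (inv_mem b.2) _
  simp only [key, Finset.sum_const, Finset.card_univ, nsmul_eq_mul]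
  rw [← Finset.mul_sum, ← mul_assoc, Fintype.card_eq_nat_card,
    inv_mul_cancel₀ (subgroup_card_ne_zero _), one_mul, Fintype.sum_option]
  congr 1
  · rw [ext_lin, rep_inv_none]
    simp [rep, mul_val]
  · refine Finset.sum_congr rfl fun c _ => ?_
    rw [ext_lin]
    have e0 : ((rep (some c))⁻¹ * g * rep (some c)).val 0 0 = g.val 0 0 + g.val 0 1 * c := by
      rw [rep_inv_some]; simp [rep, mul_val]
    have e3 : ((rep (some c))⁻¹ * g * rep (some c)).val 1 1 = g.val 1 1 - c * g.val 0 1 := by
      rw [rep_inv_some]; simp [rep, mul_val]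
      ring
    have e1 : ((rep (some c))⁻¹ * g * rep (some c)).val 1 0 =
        g.val 1 0 + c * (g.val 1 1 - g.val 0 0) - c ^ 2 * g.val 0 1 := by
      rw [rep_inv_some]; simp [rep, mul_val]
      ring
    rw [e0, e1, e3]

/-- Values on elements with zero lower left entry. -/
theorem ps_upper (α β : MulChar F ℂ) (g : GL2) (hg : g.val 1 0 = 0) :
    ps α β g = if g.val 0 0 = g.val 1 1 then
        (if g.val 0 1 = 0 then ((Fintype.card F : ℂ) + 1) * (α (g.val 0 0) * β (g.val 0 0))
          else α (g.val 0 0) * β (g.val 0 0))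
      else α (g.val 0 0) * β (g.val 1 1) + α (g.val 1 1) * β (g.val 0 0) := by
  rw [ps_eq, hg]
  simp only [zero_add]
  generalize g.val 0 0 = a
  generalize g.val 1 1 = d
  generalize g.val 0 1 = b
  by_cases had : a = d
  · subst had
    rw [if_pos rfl]
    by_cases hb : b = 0
    · subst hb
      simp only [sub_self, mul_zero, zero_mul, add_zero, sub_zero, if_true, Finset.sum_const,
        Finset.card_univ, nsmul_eq_mul]
      ring
    · rw [if_neg hb, if_neg hb, zero_add, Finset.sum_eq_single 0]
      · simp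
      · intro c _ hc
        rw [if_neg]
        simp [hb, hc]
      · simp
  · rw [if_neg had]
    have hda : d - a ≠ 0 := sub_ne_zero.mpr (Ne.symm had)
    by_cases hb : b = 0
    · subst hb
      rw [if_pos rfl, Finset.sum_eq_single 0]
      · simp; ring
      · intro c _ hc
        rw [if_neg]
        simp [hda, hc]
      · simp
    · rw [if_neg hb, zero_add]
      have hsol : ∀ c : F, c * (d - a) - c ^ 2 * b = 0 ↔ c = 0 ∨ c = (d - a) / b := by
        intro c
        rw [eq_div_iff hb, ← sub_eq_zero (a := c * b), ← mul_eq_zero]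
        constructor <;> intro h <;> linear_combination -h
      simp only [hsol]
      have hne : (0 : F) ≠ (d - a) / b := (div_ne_zero hda hb).symm
      rw [Fintype.sum_eq_add 0 ((d - a) / b) hne]
      · rw [if_pos (Or.inl rfl), if_pos (Or.inr rfl), mul_zero, add_zero, zero_mul, sub_zero,
          mul_div_cancel₀ _ hb, div_mul_cancel₀ _ hb, show a + (d - a) = d by ring,
          show d - (d - a) = a by ring]
      · intro c hc
        rw [if_neg]
        tauto

theorem ps_one (α β : MulChar F ℂ) : ps α β 1 = (Fintype.card F : ℂ) + 1 := by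
  rw [ps_upper α β 1 (by simp [one_val])]
  simp [one_val]

theorem sum_ps_upper (α β : MulChar F ℂ) (a d : Fˣ) :
    ∑ b : F, ps α β (mB a d b) =
      (Fintype.card F : ℂ) * (α (a : F) * β (d : F) + α (d : F) * β (a : F)) := by
  have hv : ∀ b : F, ps α β (mB a d b) = if (a : F) = d then
      (if b = 0 then ((Fintype.card F : ℂ) + 1) * (α (a : F) * β (a : F)) else α (a : F) * β (a : F))
      else α (a : F) * β (d : F) + α (d : F) * β (a : F) := fun b =>
    ps_upper α β (mB a d b) (by simp [mB])
  simp only [hv]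
  by_cases h : (a : F) = d
  · simp only [if_pos h]
    rw [← h]
    rw [Finset.sum_ite, Finset.sum_const, Finset.sum_const, Finset.filter_eq' ,
      if_pos (Finset.mem_univ _), Finset.card_singleton, one_smul,
      Finset.filter_not, Finset.filter_eq', if_pos (Finset.mem_univ _),
      Finset.card_sdiff_of_subset (Finset.subset_univ _), Finset.card_univ, Finset.card_singleton,
      nsmul_eq_mul, Nat.cast_sub Fintype.card_pos]
    push_cast
    ring
  · simp only [if_neg h, Finset.sum_const, Finset.card_univ, nsmul_eq_mul]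

theorem conj_mulChar (α : MulChar F ℂ) (a : Fˣ) : conj (α a) = α⁻¹ (a : F) := by
  have hp : α a ^ Fintype.card Fˣ = 1 := by
    rw [← map_pow, ← Units.val_pow_eq_pow_val, pow_card_eq_one, Units.val_one, map_one]
  rw [Characters.Diag.conj_eq_inv_of_pow Fintype.card_ne_zero hp, MulChar.inv_apply_eq_inv']

theorem norm_mulChar (α : MulChar F ℂ) {x : F} (hx : x ≠ 0) : ‖α x‖ = 1 := by
  obtain ⟨a, rfl⟩ : ∃ a : Fˣ, (a : F) = x := ⟨Units.mk0 x hx, rfl⟩
  refine Complex.norm_eq_one_of_pow_eq_one (n := Fintype.card Fˣ) ?_ Fintype.card_ne_zero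
  rw [← map_pow, ← Units.val_pow_eq_pow_val, pow_card_eq_one, Units.val_one, map_one]

open scoped Classical in
theorem sum_units (α : MulChar F ℂ) :
    ∑ a : Fˣ, α a = if α = 1 then (Fintype.card F : ℂ) - 1 else 0 := by
  split_ifs with h
  · subst h
    simp only [MulChar.one_apply_coe, Finset.sum_const, Finset.card_univ, nsmul_eq_mul, mul_one,
      Fintype.card_units]
    rw [Nat.cast_sub Fintype.card_pos, Nat.cast_one]
  · refine sum_hom_units_eq_zero (α.toMonoidHom.comp (Units.coeHom F)) fun e => h ?_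
    refine MulChar.ext fun a => ?_
    rw [MulChar.one_apply_coe]
    exact DFunLike.congr_fun e a

open scoped Classical in
theorem orth (α α' : MulChar F ℂ) :
    ∑ a : Fˣ, α a * conj (α' a) = if α = α' then (Fintype.card F : ℂ) - 1 else 0 := by
  have h := sum_units (α * α'⁻¹)
  simp only [MulChar.coeToFun_mul, Pi.mul_apply, mul_inv_eq_one] at h
  simpa only [conj_mulChar] using h

theorem card_sub_one_ne_zero : (Fintype.card F : ℂ) - 1 ≠ 0 := by
  have : 1 < Fintype.card F := Fintype.one_lt_card
  rw [sub_ne_zero]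
  exact_mod_cast this.ne'

theorem classInner_B (φ ψ : Cfsg.upperTriangularGL 2 F → ℂ) [Fintype (Cfsg.upperTriangularGL 2 F)] :
    Cfsg.classInner φ ψ = (((Fintype.card F : ℂ) - 1) * (((Fintype.card F : ℂ) - 1) * Fintype.card F))⁻¹ *
      ∑ a : Fˣ, ∑ d : Fˣ, ∑ b : F, φ (borelEquiv (a, d, b)) * conj (ψ (borelEquiv (a, d, b))) := by
  rw [Cfsg.classInner, card_B, ← (borelEquiv (F := F)).sum_comp, Fintype.sum_prod_type]
  simp only [Fintype.sum_prod_type]
  push_cast [Nat.cast_sub Fintype.card_pos]
  rfl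

theorem lin_borelEquiv (α β : MulChar F ℂ) (a d : Fˣ) (b : F) :
    lin α β (borelEquiv (a, d, b)) = α (a : F) * β (d : F) := rfl

open scoped Classical in
theorem inner_lin (α β α' β' : MulChar F ℂ) :
    Cfsg.classInner (lin α β) (lin α' β') =
      (if α = α' then (1 : ℂ) else 0) * (if β = β' then 1 else 0) := by
  rw [classInner_B]
  simp only [lin_borelEquiv, Finset.sum_const, Finset.card_univ, nsmul_eq_mul, map_mul]
  have : ∀ a d : Fˣ, (Fintype.card F : ℂ) * (α a * β d * (conj (α' a) * conj (β' d))) =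
      (Fintype.card F : ℂ) * ((α a * conj (α' a)) * (β d * conj (β' d))) := fun a d => by ring
  simp only [this, ← Finset.mul_sum, ← Finset.sum_mul, orth]
  have := card_sub_one_ne_zero (F := F)
  have : (Fintype.card F : ℂ) ≠ 0 := Nat.cast_ne_zero.mpr Fintype.card_ne_zero
  split_ifs <;> field_simp <;> ring

open scoped Classical in
theorem inner_ps (α β α' β' : MulChar F ℂ) :
    Cfsg.classInner (ps α β) (ps α' β') =
      (if α = α' then (1 : ℂ) else 0) * (if β = β' then 1 else 0) +
      (if α = β' then (1 : ℂ) else 0) * (if β = α' then 1 else 0) := by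
  have h0 : Cfsg.classInner (ps α β) (ps α' β') =
      Cfsg.classInner (lin α β) (fun h : Cfsg.upperTriangularGL 2 F => ps α' β' h) :=
    frobenius_reciprocity (Cfsg.upperTriangularGL 2 F) (lin α β) (classFun_ps α' β')
  rw [h0, classInner_B]
  simp only [lin_borelEquiv, borelEquiv_val]
  have : ∀ a d : Fˣ, ∑ b : F, α a * β d * conj (ps α' β' (mB a d b)) =
      (Fintype.card F : ℂ) * ((α a * conj (α' a)) * (β d * conj (β' d))) +
      (Fintype.card F : ℂ) * ((α a * conj (β' a)) * (β d * conj (α' d))) := fun a d => by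
    rw [← Finset.mul_sum, ← map_sum, sum_ps_upper]
    simp only [map_mul, map_add, map_natCast]
    ring
  simp only [this, Finset.sum_add_distrib, ← Finset.mul_sum, ← Finset.sum_mul, orth]
  have := card_sub_one_ne_zero (F := F)
  have : (Fintype.card F : ℂ) ≠ 0 := Nat.cast_ne_zero.mpr Fintype.card_ne_zero
  split_ifs <;> field_simp <;> ring

theorem eq_zero_of_inner_self {θ : GL2 → ℂ} (h : Cfsg.classInner θ θ = 0) : θ = 0 := by
  funext g
  simp only [Cfsg.classInner, mul_eq_zero, inv_eq_zero, natCard_ne_zero, false_or] at h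
  have h' : ∑ x : GL2, ((Complex.normSq (θ x) : ℝ) : ℂ) = 0 := by
    simpa only [Complex.mul_conj] using h
  rw [← Complex.ofReal_sum, Complex.ofReal_eq_zero,
    Finset.sum_eq_zero_iff_of_nonneg fun x _ => Complex.normSq_nonneg _] at h'
  exact Complex.normSq_eq_zero.mp (h' g (Finset.mem_univ _))

theorem ps_comm (α β : MulChar F ℂ) : ps α β = ps β α := by
  refine sub_eq_zero.mp (eq_zero_of_inner_self ?_)
  simp only [classInner_sub_left, classInner_sub_right, inner_ps]
  ring

theorem ps_eq_iff (α β α' β' : MulChar F ℂ) :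
    ps α β = ps α' β' ↔ (α = α' ∧ β = β') ∨ (α = β' ∧ β = α') := by
  classical
  constructor
  · intro h
    by_contra hc
    push Not at hc
    have h1 := inner_ps α β α β
    have h2 := inner_ps α β α' β'
    have z1 : (if α = α' then (1 : ℂ) else 0) * (if β = β' then 1 else 0) = 0 := by
      split_ifs with a b <;> simp_all
    have z2 : (if α = β' then (1 : ℂ) else 0) * (if β = α' then 1 else 0) = 0 := by
      split_ifs with a b <;> simp_all
    rw [← h, h1, z1, z2, if_pos rfl, if_pos rfl] at h2
    revert h2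
    split_ifs <;> norm_num
  · rintro (⟨rfl, rfl⟩ | ⟨rfl, rfl⟩)
    · rfl
    · exact ps_comm _ _

end Finite

end Cfsg.Agent.Lib.GL2Chars37
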