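import Mathlib
import Cfsg.Agent.Lib.GL2Chars37.Basic

/-!
GL₂(q) has `q² - 1` conjugacy classes: scalars and companion matrices.
-/

set_option autoImplicit false

namespace Cfsg.Agent.Lib.GL2Chars37

variable {F : Type*} [Field F]

local notation "GL2" => Matrix.GeneralLinearGroup (Fin 2) F

/-- A scalar element. -/
noncomputable def scal (a : Fˣ) : Matrix.GeneralLinearGroup (Fin 2) F := mk2 (a : F) 0 0 (a : F) (by simp)

/-- The companion element of `X² - tX + δ`. -/
noncomputable def comp (t : F) (δ : Fˣ) : Matrix.GeneralLinearGroup (Fin 2) F :=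
  mk2 0 (-(δ : F)) 1 t (by simp)

theorem scal_comm (a : Fˣ) (g : GL2) : g * scal a = scal a * g := by
  apply gl_ext <;> simp [mul_val, scal] <;> ring

theorem isConj_scal {a : Fˣ} {g : GL2} (h : IsConj (scal a) g) : g = scal a := by
  obtain ⟨c, rfl⟩ := isConj_iff.mp h
  rw [scal_comm, mul_inv_cancel_right]

theorem trace_conj (g h : GL2) :
    (h * g * h⁻¹).val 0 0 + (h * g * h⁻¹).val 1 1 = g.val 0 0 + g.val 1 1 := by
  have : Matrix.trace (h * g * h⁻¹).val = Matrix.trace g.val := by
    rw [Units.val_mul, Matrix.trace_mul_comm, ← Units.val_mul, inv_mul_cancel_left]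
  simpa [Matrix.trace_fin_two] using this

theorem det_conj (g h : GL2) :
    (h * g * h⁻¹).val 0 0 * (h * g * h⁻¹).val 1 1 - (h * g * h⁻¹).val 0 1 * (h * g * h⁻¹).val 1 0 =
      g.val 0 0 * g.val 1 1 - g.val 0 1 * g.val 1 0 := by
  have : Matrix.det (h * g * h⁻¹).val = Matrix.det g.val := Matrix.det_units_conj h g.val
  rwa [Matrix.det_fin_two, Matrix.det_fin_two] at this

theorem exists_rep (g : GL2) :
    (∃ a : Fˣ, g = scal a) ∨ ∃ (t : F) (δ : Fˣ), IsConj (comp t δ) g := by
  classical
  have key : ∀ (p00 p01 p10 p11 : F) (h : p00 * p11 - p01 * p10 ≠ 0),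
      p01 = g.val 0 0 * p00 + g.val 0 1 * p10 → p11 = g.val 1 0 * p00 + g.val 1 1 * p10 →
      ∃ (t : F) (δ : Fˣ), IsConj (comp t δ) g := by
    intro p00 p01 p10 p11 h h0 h1
    refine ⟨g.val 0 0 + g.val 1 1, Units.mk0 _ (det_ne g), isConj_iff.mpr
      ⟨mk2 p00 p01 p10 p11 h, mul_inv_eq_iff_eq_mul.mpr ?_⟩⟩
    apply gl_ext <;> simp [mul_val, comp] <;> subst h0 <;> subst h1 <;> ring
  by_cases h10 : g.val 1 0 ≠ 0
  · exact Or.inr (key 1 (g.val 0 0) 0 (g.val 1 0) (by simpa using h10) (by simp) (by simp))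
  · by_cases h01 : g.val 0 1 ≠ 0
    · exact Or.inr (key 0 (g.val 0 1) 1 (g.val 1 1) (by simpa using h01) (by simp) (by simp))
    · push Not at h10 h01
      by_cases had : g.val 0 0 = g.val 1 1
      · exact Or.inl ⟨Units.mk0 _ (diag_ne_zero h10).1, gl_ext (by simp [scal]) (by simp [scal, h01])
          (by simp [scal, h10]) (by simp [scal, had])⟩
      · exact Or.inr (key 1 (g.val 0 0) 1 (g.val 1 1)
          (by simpa [sub_ne_zero] using Ne.symm had) (by simp [h01]) (by simp [h10]))

/-- Class representatives. -/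
noncomputable def classRep : Fˣ ⊕ F × Fˣ → ConjClasses (Matrix.GeneralLinearGroup (Fin 2) F) :=
  Sum.elim (fun a => ConjClasses.mk (scal a)) fun p => ConjClasses.mk (comp p.1 p.2)

theorem classRep_bijective : Function.Bijective (classRep (F := F)) := by
  constructor
  · rintro (a | ⟨t, δ⟩) (b | ⟨s, ε⟩) h <;>
      simp only [classRep, Sum.elim_inl, Sum.elim_inr, ConjClasses.mk_eq_mk_iff_isConj] at h
    · have e := congrArg (fun g : GL2 => g.val 0 0) (isConj_scal h)
      simp [scal] at e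
      rw [Units.ext e]
    · have e := congrArg (fun g : GL2 => g.val 1 0) (isConj_scal h)
      simp [scal, comp] at e
    · have e := congrArg (fun g : GL2 => g.val 1 0) (isConj_scal h.symm)
      simp [scal, comp] at e
    · obtain ⟨c, hc⟩ := isConj_iff.mp h
      have e1 := trace_conj (comp t δ) c
      have e2 := det_conj (comp t δ) c
      rw [hc] at e1 e2
      simp [comp] at e1 e2
      rw [e1, Units.ext e2]
  · intro C
    obtain ⟨g, rfl⟩ := ConjClasses.mk_surjective C
    rcases exists_rep g with ⟨a, rfl⟩ | ⟨t, δ, h⟩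
    · exact ⟨Sum.inl a, rfl⟩
    · exact ⟨Sum.inr (t, δ), ConjClasses.mk_eq_mk_iff_isConj.mpr h⟩

theorem card_conjClasses [Fintype F] :
    Nat.card (ConjClasses GL2) = (Fintype.card F - 1) + Fintype.card F * (Fintype.card F - 1) := by
  rw [← Nat.card_congr (Equiv.ofBijective _ (classRep_bijective (F := F))), Nat.card_sum, Nat.card_prod,
    Nat.card_units, Nat.card_eq_fintype_card]

theorem card_GL2 [Fintype F] :
    Nat.card GL2 = (Fintype.card F ^ 2 - 1) * (Fintype.card F ^ 2 - Fintype.card F) := by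
  rw [Matrix.card_GL_field, Fin.prod_univ_two]
  simp

end Cfsg.Agent.Lib.GL2Chars37
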