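import Mathlib
import Cfsg.Agent.Lib.GL2Chars37.Classes
import Cfsg.Agent.Lib.Characters.Complete
import Cfsg.Agent.Lib.Characters.Linear
import Cfsg.Agent.Lib.Induced.Generalized
import Cfsg.Agent.Lib.Glauberman.Cyclic

/-!
GL₂(q): classification of the irreducible characters by degree.
-/

set_option autoImplicit false
set_option linter.unusedSectionVars false

namespace Cfsg.Agent.Lib.GL2Chars37

open Cfsg.Agent.Lib.Induced.Basic
open Cfsg.Agent.Lib.Characters.Basic (classInner_self_irr classInner_irr_of_ne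
  isIrrCharacter_iff_classInner_self isClassFunction_irr isCharacter_irr exists_degree_pos)
open scoped ComplexConjugate

variable {F : Type*} [Field F] [Fintype F] [DecidableEq F]

local notation "GL2" => Matrix.GeneralLinearGroup (Fin 2) F

theorem isIrr_ps {α β : MulChar F ℂ} (h : α ≠ β) : Cfsg.IsIrrCharacter GL2 (ps α β) := by
  classical
  rw [isIrrCharacter_iff_classInner_self (isCharacter_ps α β), inner_ps]
  simp [h]

/-- The linear character `χ ∘ det` as a homomorphism. -/
noncomputable def dcHom (χ : MulChar F ℂ) : Matrix.GeneralLinearGroup (Fin 2) F →* ℂˣ :=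
  χ.toUnitHom.comp Matrix.GeneralLinearGroup.det

/-- The linear character `χ ∘ det`. -/
noncomputable def dc (χ : MulChar F ℂ) : Cfsg.IrrCharacter (Matrix.GeneralLinearGroup (Fin 2) F) :=
  Characters.Linear.linChar (dcHom χ)

theorem dc_apply (χ : MulChar F ℂ) (g : GL2) :
    (dc χ).1 g = χ (g.val 0 0 * g.val 1 1 - g.val 0 1 * g.val 1 0) := by
  rw [dc, Characters.Linear.linChar_apply]
  simp [dcHom, MulChar.coe_toUnitHom, Matrix.det_fin_two]

theorem dc_one (χ : MulChar F ℂ) : (dc χ).1 1 = 1 := by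
  rw [dc, Characters.Linear.linChar_apply, map_one, Units.val_one]

theorem dc_injective : Function.Injective (dc : MulChar F ℂ → Cfsg.IrrCharacter GL2) := by
  intro α β h
  refine MulChar.ext fun a => ?_
  have e := congrArg (fun χ : Cfsg.IrrCharacter GL2 => χ.1 (mk2 (a : F) 0 0 1 (by simp))) h
  simpa [dc_apply] using e

open scoped Classical in
theorem inner_dc_ps (χ α β : MulChar F ℂ) :
    Cfsg.classInner (dc χ).1 (ps α β) = (if χ = α then (1 : ℂ) else 0) * (if χ = β then 1 else 0) := by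
  rw [← inner_lin χ χ α β]
  have h : (fun h : Cfsg.upperTriangularGL 2 F => (dc χ).1 h) = lin χ χ := by
    funext b
    rw [dc_apply, mem_B.mp b.2, mul_zero, sub_zero, map_mul]
    rfl
  rw [← h]
  exact frobenius_reciprocity' (Cfsg.upperTriangularGL 2 F) (lin α β) (isClassFunction_irr (dc χ))

open scoped Classical in
theorem inner_dc_dc (χ χ' : MulChar F ℂ) :
    Cfsg.classInner (dc χ).1 (dc χ').1 = if χ = χ' then (1 : ℂ) else 0 := by
  split_ifs with h
  · rw [h]; exact classInner_self_irr _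
  · exact classInner_irr_of_ne fun e => h (dc_injective e)

/-- The Steinberg character twisted by `χ ∘ det`. -/
noncomputable def stFun (χ : MulChar F ℂ) : Matrix.GeneralLinearGroup (Fin 2) F → ℂ :=
  ps χ χ - (dc χ).1

theorem stFun_one (χ : MulChar F ℂ) : stFun χ 1 = (Fintype.card F : ℂ) := by
  rw [stFun, Pi.sub_apply, ps_one, dc_one, add_sub_cancel_right]

open scoped Classical in
theorem inner_st_ps (χ α β : MulChar F ℂ) :
    Cfsg.classInner (stFun χ) (ps α β) =
      (if χ = α then (1 : ℂ) else 0) * (if χ = β then 1 else 0) := by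
  rw [stFun, classInner_sub_left, inner_ps, inner_dc_ps]
  split_ifs <;> norm_num

theorem isIrr_st (χ : MulChar F ℂ) : Cfsg.IsIrrCharacter GL2 (stFun χ) := by
  classical
  refine Induced.Generalized.isIrrCharacter_of_norm_one
    (Induced.Generalized.isGen_sub (Induced.Generalized.of_isCharacter (isCharacter_ps χ χ))
      (Induced.Generalized.of_irr (dc χ))) ?_ ?_
  · change Cfsg.classInner (stFun χ) (ps χ χ - (dc χ).1) = 1
    rw [classInner_sub_right, inner_st_ps, stFun, classInner_sub_left, inner_dc_dc,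
      ← classInner_conj_symm (dc χ).1 (ps χ χ), inner_dc_ps]
    simp
  · change 0 < (stFun χ 1).re
    rw [stFun_one, Complex.natCast_re]
    exact_mod_cast Fintype.card_pos

/-- The twisted Steinberg character. -/
noncomputable def st (χ : MulChar F ℂ) : Cfsg.IrrCharacter (Matrix.GeneralLinearGroup (Fin 2) F) :=
  ⟨stFun χ, isIrr_st χ⟩

/-- The unordered pairs of distinct characters. -/
abbrev Pairs (F : Type*) [Field F] := {z : Sym2 (MulChar F ℂ) // ¬ z.IsDiag}

/-- The principal series function of an unordered pair. -/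
noncomputable def psSym (z : Sym2 (MulChar F ℂ)) : Matrix.GeneralLinearGroup (Fin 2) F → ℂ :=
  Sym2.lift ⟨ps, ps_comm⟩ z

theorem psSym_mk (α β : MulChar F ℂ) : psSym s(α, β) = ps α β := rfl

theorem isIrr_psSym (z : Pairs F) : Cfsg.IsIrrCharacter GL2 (psSym z.1) := by
  obtain ⟨z, hz⟩ := z
  induction z using Sym2.ind with
  | h α β => exact isIrr_ps (by simpa using hz)

/-- The irreducible characters that are constituents of principal series. -/
noncomputable def known :
    MulChar F ℂ ⊕ MulChar F ℂ ⊕ Pairs F → Cfsg.IrrCharacter (Matrix.GeneralLinearGroup (Fin 2) F) :=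
  Sum.elim dc (Sum.elim st fun z => ⟨psSym z.1, isIrr_psSym z⟩)

theorem two_le_q : (2 : ℕ) ≤ Fintype.card F := Fintype.one_lt_card

theorem psSym_one (z : Sym2 (MulChar F ℂ)) : psSym z 1 = ((Fintype.card F + 1 : ℕ) : ℂ) := by
  induction z using Sym2.ind with
  | h α β => rw [psSym_mk, ps_one]; push_cast; rfl

/-- The degree of a member of the known family. -/
def knownDeg : MulChar F ℂ ⊕ MulChar F ℂ ⊕ Pairs F → ℕ :=
  Sum.elim (fun _ => 1) (Sum.elim (fun _ => Fintype.card F) fun _ => Fintype.card F + 1)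

theorem known_one (i : MulChar F ℂ ⊕ MulChar F ℂ ⊕ Pairs F) :
    (known i).1 1 = (knownDeg i : ℂ) := by
  rcases i with χ | χ | z
  · exact (dc_one χ).trans Nat.cast_one.symm
  · exact stFun_one χ
  · exact psSym_one z.1

theorem known_injective : Function.Injective (known (F := F)) := by
  classical
  intro i j h
  have hd : knownDeg i = knownDeg j := by
    have := (known_one i).symm.trans ((congrArg (fun χ : Cfsg.IrrCharacter GL2 => χ.1 1) h).trans (known_one j))
    exact_mod_cast this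
  have hq := two_le_q (F := F)
  rcases i with χ | χ | z <;> rcases j with χ' | χ' | z' <;>
    simp only [knownDeg, Sum.elim_inl, Sum.elim_inr] at hd <;> try omega
  · exact congrArg Sum.inl (dc_injective h)
  · have e : stFun χ = stFun χ' := congrArg Subtype.val h
    have h1 := inner_st_ps χ χ' χ'
    rw [e, inner_st_ps] at h1
    by_contra hne
    have hne' : χ ≠ χ' := fun e => hne (by rw [e])
    simp [hne'] at h1
  · obtain ⟨z, hz⟩ := z
    obtain ⟨z', hz'⟩ := z'
    induction z using Sym2.ind with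
    | h α β =>
      induction z' using Sym2.ind with
      | h α' β' =>
        have e : ps α β = ps α' β' := congrArg Subtype.val h
        have : s(α, β) = s(α', β') := by
          rcases (ps_eq_iff α β α' β').mp e with ⟨rfl, rfl⟩ | ⟨rfl, rfl⟩
          · rfl
          · exact Sym2.eq_swap
        exact congrArg (fun x => Sum.inr (Sum.inr x)) (Subtype.ext this)

/-- A cuspidal irreducible character: orthogonal to every principal series. -/
def IsCusp (χ : Cfsg.IrrCharacter (Matrix.GeneralLinearGroup (Fin 2) F)) : Prop :=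
  ∀ α β : MulChar F ℂ, Cfsg.classInner χ.1 (ps α β) = 0

theorem known_or_cusp (χ : Cfsg.IrrCharacter GL2) : (∃ i, known i = χ) ∨ IsCusp χ := by
  by_cases h : IsCusp χ
  · exact Or.inr h
  left
  simp only [IsCusp, not_forall] at h
  obtain ⟨α, β, hne⟩ := h
  by_cases hab : α = β
  · subst hab
    by_contra hcon
    push Not at hcon
    refine hne ?_
    have e : ps α α = (st α).1 + (dc α).1 := by simp [st, stFun]
    have h1 : st α ≠ χ := hcon (Sum.inr (Sum.inl α))
    have h2 : dc α ≠ χ := hcon (Sum.inl α)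
    rw [e, classInner_add_right, classInner_irr_of_ne h1.symm, classInner_irr_of_ne h2.symm, add_zero]
  · refine ⟨Sum.inr (Sum.inr ⟨s(α, β), by simpa using hab⟩), ?_⟩
    by_contra hcon
    exact hne (classInner_irr_of_ne (Ne.symm hcon))

theorem not_cusp_known (i : MulChar F ℂ ⊕ MulChar F ℂ ⊕ Pairs F) : ¬ IsCusp (known i) := by
  classical
  intro hc
  rcases i with χ | χ | z
  · have h : Cfsg.classInner (dc χ).1 (ps χ χ) = 0 := hc χ χ
    simp [inner_dc_ps] at h
  · have h : Cfsg.classInner (stFun χ) (ps χ χ) = 0 := hc χ χ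
    simp [inner_st_ps] at h
  · obtain ⟨z, hz⟩ := z
    induction z using Sym2.ind with
    | h α β =>
      have h : Cfsg.classInner (ps α β) (ps α β) = 0 := hc α β
      have hne : α ≠ β := by simpa using hz
      simp [inner_ps, hne] at h

theorem card_mulChar : Nat.card (MulChar F ℂ) = Fintype.card F - 1 := by
  rw [MulChar.card_eq_card_units_of_hasEnoughRootsOfUnity, Nat.card_units, Nat.card_eq_fintype_card]

open scoped Classical in
theorem sum_chars [Fintype (MulChar F ℂ)] (x : Fˣ) :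
    ∑ α : MulChar F ℂ, α x = if x = 1 then (Fintype.card F : ℂ) - 1 else 0 := by
  split_ifs with h
  · subst h
    simp only [Units.val_one, map_one, Finset.sum_const, Finset.card_univ, nsmul_eq_mul, mul_one,
      ← Nat.card_eq_fintype_card, card_mulChar]
    rw [Nat.card_eq_fintype_card, Nat.cast_sub Fintype.card_pos, Nat.cast_one]
  · obtain ⟨χ, hχ⟩ := MulChar.exists_apply_ne_one_of_hasEnoughRootsOfUnity F ℂ
      (show (x : F) ≠ 1 from fun e => h (Units.ext e))
    refine eq_zero_of_mul_eq_self_left hχ ?_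
    rw [Finset.mul_sum]
    exact Fintype.sum_equiv (Equiv.mulLeft χ) _ _ fun α => by simp

theorem cusp_sum {χ : Cfsg.IrrCharacter GL2} (hc : IsCusp χ) (a d : Fˣ) :
    ∑ b : F, χ.1 (mB a d b) = 0 := by
  classical
  have := Fintype.ofFinite (MulChar F ℂ)
  have hq : (Fintype.card F : ℂ) - 1 ≠ 0 := card_sub_one_ne_zero
  have h0 : ∀ α β : MulChar F ℂ,
      ∑ a : Fˣ, ∑ d : Fˣ, (∑ b : F, χ.1 (mB a d b)) * (conj (α a) * conj (β d)) = 0 := by
    intro α β
    have h : Cfsg.classInner (fun h : Cfsg.upperTriangularGL 2 F => χ.1 h) (lin α β) = 0 := by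
      rw [← frobenius_reciprocity' (Cfsg.upperTriangularGL 2 F) (lin α β) (isClassFunction_irr χ)]
      exact hc α β
    rw [classInner_B, mul_eq_zero, inv_eq_zero] at h
    have hqq : (Fintype.card F : ℂ) ≠ 0 := Nat.cast_ne_zero.mpr Fintype.card_ne_zero
    simpa [lin_borelEquiv, borelEquiv_val, hq, hqq, Finset.sum_mul] using h
  have dual : ∀ x a' : Fˣ, ∑ α : MulChar F ℂ, α x * conj (α a') =
      if x = a' then (Fintype.card F : ℂ) - 1 else 0 := by
    intro x a'
    have := sum_chars (x * a'⁻¹)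
    simp only [Units.val_mul, map_mul, mul_inv_eq_one] at this
    rw [← this]
    refine Finset.sum_congr rfl fun α _ => ?_
    rw [conj_mulChar, MulChar.inv_apply', Units.val_inv_eq_inv_val]
  have key : ∑ α : MulChar F ℂ, ∑ β : MulChar F ℂ, (α a * β d) *
      ∑ a' : Fˣ, ∑ d' : Fˣ, (∑ b : F, χ.1 (mB a' d' b)) * (conj (α a') * conj (β d')) =
      ∑ a' : Fˣ, ∑ d' : Fˣ, (∑ b : F, χ.1 (mB a' d' b)) *
        ((∑ α : MulChar F ℂ, α a * conj (α a')) * (∑ β : MulChar F ℂ, β d * conj (β d'))) := by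
    let f : MulChar F ℂ × MulChar F ℂ → Fˣ × Fˣ → ℂ := fun p x => p.1 a * p.2 d *
      ((∑ b : F, χ.1 (mB x.1 x.2 b)) * (conj (p.1 x.1) * conj (p.2 x.2)))
    calc _ = ∑ p, ∑ x, f p x := by simp only [f, Fintype.sum_prod_type, Finset.mul_sum]
      _ = ∑ x, ∑ p, f p x := Finset.sum_comm
      _ = _ := by
        simp only [f, Fintype.sum_prod_type]
        refine Finset.sum_congr rfl fun a' _ => Finset.sum_congr rfl fun d' _ => ?_
        rw [Finset.sum_mul_sum, Finset.mul_sum]
        refine Finset.sum_congr rfl fun α _ => ?_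
        rw [Finset.mul_sum]
        exact Finset.sum_congr rfl fun β _ => by ring
  simp only [h0, mul_zero, Finset.sum_const_zero] at key
  rw [eq_comm] at key
  simpa [dual, hq] using key

/-- The standard transvection. -/
noncomputable def transv : Matrix.GeneralLinearGroup (Fin 2) F := mB 1 1 1

theorem isConj_mB_one {b : F} (hb : b ≠ 0) : IsConj (transv (F := F)) (mB 1 1 b) := by
  refine isConj_iff.mpr ⟨mk2 b 0 0 1 (by simp [hb]), mul_inv_eq_iff_eq_mul.mpr ?_⟩
  apply gl_ext <;> simp [transv, mB, mul_val]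

theorem cusp_transv {χ : Cfsg.IrrCharacter GL2} (hc : IsCusp χ) :
    χ.1 1 + ((Fintype.card F : ℂ) - 1) * χ.1 (transv (F := F)) = 0 := by
  classical
  have h := cusp_sum hc 1 1
  rw [Fintype.sum_eq_add_sum_compl 0] at h
  have h1 : mB (1 : Fˣ) 1 (0 : F) = 1 := by
    apply gl_ext <;> simp [mB, one_val]
  rw [h1, Finset.sum_congr rfl fun b hb => ?_] at h
  · rw [Finset.sum_const, Finset.card_compl, Finset.card_singleton, nsmul_eq_mul,
      Nat.cast_sub Fintype.card_pos, Nat.cast_one] at h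
    exact h
  · exact (Characters.Basic.classFunction_apply_of_isConj (isClassFunction_irr χ)
      (isConj_mB_one (by simpa using hb))).symm

theorem cusp_degree_dvd {χ : Cfsg.IrrCharacter GL2} (hc : IsCusp χ) :
    ∃ m : ℕ, 0 < m ∧ χ.1 1 = ((m * (Fintype.card F - 1) : ℕ) : ℂ) := by
  obtain ⟨n, hn0, hn⟩ := exists_degree_pos χ
  have hq := two_le_q (F := F)
  have hint : IsIntegral ℤ (χ.1 (transv (F := F))) :=
    Characters.Basic.isIntegral_apply (isCharacter_irr χ) _
  have h := cusp_transv hc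
  rw [hn] at h
  have hc1 : ((Fintype.card F - 1 : ℕ) : ℂ) = (Fintype.card F : ℂ) - 1 := by
    rw [Nat.cast_sub (by omega), Nat.cast_one]
  have e : χ.1 (transv (F := F)) * ((Fintype.card F - 1 : ℕ) : ℂ) = ((-(n : ℤ) : ℤ) : ℂ) := by
    rw [hc1]; push_cast; linear_combination h
  obtain ⟨k, hk⟩ : ∃ k : ℤ, χ.1 (transv (F := F)) = k :=
    Cfsg.Agent.Lib.Glauberman.Cyclic.exists_int_of_isIntegral hint (by omega : Fintype.card F - 1 ≠ 0) ((mul_comm _ _).trans e)
  rw [hk] at e
  have e' : k * ((Fintype.card F - 1 : ℕ) : ℤ) = -(n : ℤ) := by exact_mod_cast e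
  have hdvd : ((Fintype.card F - 1 : ℕ) : ℤ) ∣ (n : ℤ) := ⟨-k, by linear_combination e'⟩
  obtain ⟨m, hm⟩ := Int.natCast_dvd_natCast.mp hdvd
  exact ⟨m, Nat.pos_of_mul_pos_left (hm ▸ hn0), by rw [hn, hm, mul_comm]⟩

theorem card_cusp_mul_two :
    2 * Nat.card {χ : Cfsg.IrrCharacter GL2 // IsCusp χ} = Fintype.card F * (Fintype.card F - 1) := by
  classical
  have := Fintype.ofFinite (MulChar F ℂ)
  have hsum : Nat.card (Cfsg.IrrCharacter GL2) =
      Nat.card (MulChar F ℂ ⊕ MulChar F ℂ ⊕ Pairs F) + Nat.card {χ : Cfsg.IrrCharacter GL2 // IsCusp χ} := by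
    rw [← Nat.card_sum]
    refine (Nat.card_congr (Equiv.ofBijective (Sum.elim known Subtype.val) ⟨?_, ?_⟩)).symm
    · refine Function.Injective.sumElim known_injective Subtype.val_injective fun i c e => ?_
      exact not_cusp_known i (e ▸ c.2)
    · intro χ
      rcases known_or_cusp χ with ⟨i, hi⟩ | h
      · exact ⟨Sum.inl i, hi⟩
      · exact ⟨Sum.inr ⟨χ, h⟩, rfl⟩
  rw [Characters.Complete.card_irr_eq_card_conjClasses, card_conjClasses, Nat.card_sum, Nat.card_sum,
    card_mulChar, Sym2.natCard_subtype_not_diag, card_mulChar, Nat.choose_two_right] at hsum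
  have hq := two_le_q (F := F)
  obtain ⟨r, hr⟩ : ∃ r, Fintype.card F = r + 2 := ⟨Fintype.card F - 2, by omega⟩
  simp only [hr, Nat.add_sub_cancel_right, show r + 2 - 1 = r + 1 by omega] at hsum ⊢
  have := Nat.two_mul_div_two_of_even (Nat.even_mul_pred_self (r + 1))
  rw [Nat.add_sub_cancel] at this
  nlinarith

theorem cusp_degree {χ : Cfsg.IrrCharacter GL2} (hc : IsCusp χ) :
    χ.1 1 = ((Fintype.card F - 1 : ℕ) : ℂ) := by
  classical
  have := Fintype.ofFinite (MulChar F ℂ)
  have := Fintype.ofFinite (Cfsg.IrrCharacter GL2)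
  have hq := two_le_q (F := F)
  choose m hm0 hm using fun c : {χ : Cfsg.IrrCharacter GL2 // IsCusp χ} => cusp_degree_dvd c.2
  let e : (MulChar F ℂ ⊕ MulChar F ℂ ⊕ Pairs F) ⊕ {χ : Cfsg.IrrCharacter GL2 // IsCusp χ} ≃
      Cfsg.IrrCharacter GL2 := Equiv.ofBijective (Sum.elim known Subtype.val) ⟨
    Function.Injective.sumElim known_injective Subtype.val_injective
      fun i c e => not_cusp_known i (e ▸ c.2),
    fun χ => (known_or_cusp χ).elim (fun ⟨i, hi⟩ => ⟨Sum.inl i, hi⟩) fun h => ⟨Sum.inr ⟨χ, h⟩, rfl⟩⟩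
  have hsq := Characters.Complete.finsum_degree_sq (G := GL2)
  rw [finsum_eq_sum_of_fintype, ← e.sum_comp, Fintype.sum_sum_type] at hsq
  have he1 : ∀ i, (e (Sum.inl i)).1 1 = (knownDeg i : ℂ) := fun i => known_one i
  have he2 : ∀ c, (e (Sum.inr c)).1 1 = ((m c * (Fintype.card F - 1) : ℕ) : ℂ) := fun c => hm c
  simp only [he1, he2] at hsq
  norm_cast at hsq
  rw [Fintype.sum_sum_type, Fintype.sum_sum_type, card_GL2] at hsq
  simp only [knownDeg, Sum.elim_inl, Sum.elim_inr, Finset.sum_const, Finset.card_univ, smul_eq_mul,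
    mul_pow, ← Finset.sum_mul, ← Nat.card_eq_fintype_card (α := MulChar F ℂ),
    ← Nat.card_eq_fintype_card (α := Pairs F), card_mulChar, Sym2.natCard_subtype_not_diag,
    Nat.choose_two_right] at hsq
  have hcard := card_cusp_mul_two (F := F)
  have hms : ∑ c, m c ^ 2 = ∑ _c : {χ : Cfsg.IrrCharacter GL2 // IsCusp χ}, 1 := by
    rw [Finset.sum_const, Finset.card_univ, smul_eq_mul, mul_one, ← Nat.card_eq_fintype_card]
    generalize hS : ∑ c, m c ^ 2 = S at hsq
    generalize Nat.card {χ : Cfsg.IrrCharacter GL2 // IsCusp χ} = K at hcard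
    generalize Fintype.card F = q at hsq hcard hq
    obtain ⟨r, rfl⟩ : ∃ r, q = r + 2 := ⟨q - 2, by omega⟩
    simp only [show r + 2 - 1 = r + 1 by omega, Nat.add_sub_cancel] at hsq hcard
    have hev := Nat.two_mul_div_two_of_even (Nat.even_mul_pred_self (r + 1))
    rw [Nat.add_sub_cancel] at hev
    generalize (r + 1) * r / 2 = P at hsq hev
    have ha : ((r + 2) ^ 2 - 1 : ℕ) = (r + 1) * (r + 3) := by
      rw [Nat.sub_eq_iff_eq_add (Nat.one_le_pow _ _ (by omega))]; ring
    have hb : ((r + 2) ^ 2 - (r + 2) : ℕ) = (r + 2) * (r + 1) := by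
      rw [Nat.sub_eq_iff_eq_add (Nat.le_self_pow (by omega) _)]; ring
    rw [ha, hb] at hsq
    have : 0 < (r + 1) ^ 2 := by positivity
    have h2 : (r + 1) ^ 2 * (2 * S) = (r + 1) ^ 2 * (2 * K) := by nlinarith
    have := Nat.eq_of_mul_eq_mul_left this h2
    omega
  have hone := (Finset.sum_eq_sum_iff_of_le fun c _ => Nat.one_le_pow _ _ (hm0 c)).mp hms.symm
    ⟨χ, hc⟩ (Finset.mem_univ _)
  have : m ⟨χ, hc⟩ = 1 := by simpa using hone.symm
  rw [hm ⟨χ, hc⟩, this, one_mul]

/-- The classification by degree. -/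
theorem cases {χ : GL2 → ℂ} (hχ : Cfsg.IsIrrCharacter GL2 χ) :
    (∃ α : MulChar F ℂ, χ = (dc α).1) ∨ (∃ α : MulChar F ℂ, χ = stFun α) ∨
    (∃ α β : MulChar F ℂ, α ≠ β ∧ χ = ps α β) ∨
    (IsCusp ⟨χ, hχ⟩ ∧ χ 1 = ((Fintype.card F - 1 : ℕ) : ℂ)) := by
  rcases known_or_cusp ⟨χ, hχ⟩ with ⟨i, hi⟩ | h
  · rcases i with α | α | z
    · exact Or.inl ⟨α, (congrArg Subtype.val hi).symm⟩
    · exact Or.inr (Or.inl ⟨α, (congrArg Subtype.val hi).symm⟩)
    · obtain ⟨z, hz⟩ := z
      induction z using Sym2.ind with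
      | h α β =>
        exact Or.inr (Or.inr (Or.inl ⟨α, β, by simpa using hz, (congrArg Subtype.val hi).symm⟩))
  · exact Or.inr (Or.inr (Or.inr ⟨h, cusp_degree (χ := ⟨χ, hχ⟩) h⟩))

theorem cusp_vanish {χ : Cfsg.IrrCharacter GL2} (hc : IsCusp χ) {g : GL2} (h01 : g.val 0 1 = 0)
    (h10 : g.val 1 0 = 0) (hne : g.val 0 0 ≠ g.val 1 1) : χ.1 g = 0 := by
  classical
  have h := cusp_sum hc (Units.mk0 _ (diag_ne_zero h10).1) (Units.mk0 _ (diag_ne_zero h10).2)
  have hconj : ∀ b : F, χ.1 (mB (Units.mk0 _ (diag_ne_zero h10).1)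
      (Units.mk0 _ (diag_ne_zero h10).2) b) = χ.1 g := by
    intro b
    refine Characters.Basic.classFunction_apply_of_isConj (isClassFunction_irr χ) ?_
    refine (isConj_iff.mpr ⟨mk2 1 (b / (g.val 1 1 - g.val 0 0)) 0 1 (by simp),
      mul_inv_eq_iff_eq_mul.mpr ?_⟩).symm
    have := sub_ne_zero.mpr hne.symm
    apply gl_ext <;> simp [mB, mul_val, h01, h10]
    field_simp
    ring
  simp only [hconj, Finset.sum_const, Finset.card_univ, nsmul_eq_mul, mul_eq_zero] at h
  exact h.resolve_left (Nat.cast_ne_zero.mpr Fintype.card_ne_zero)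

theorem ps_elliptic (α β : MulChar F ℂ) {g : GL2}
    (hg : ∀ (c : F) (v : Fin 2 → F), v ≠ 0 → Matrix.mulVec g.val v ≠ c • v) : ps α β g = 0 := by
  rw [ps_eq, if_neg, zero_add, Finset.sum_eq_zero]
  · intro c _
    rw [if_neg]
    intro hc
    refine hg (g.val 0 0 + g.val 0 1 * c) ![1, c] (fun h => by simpa using congrFun h 0) ?_
    funext i
    fin_cases i <;> simp [Matrix.mulVec, dotProduct, Fin.sum_univ_two]
    linear_combination hc
  · intro h0
    refine hg (g.val 1 1) ![0, 1] (fun h => by simpa using congrFun h 1) ?_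
    funext i
    fin_cases i <;> simp [Matrix.mulVec, dotProduct, Fin.sum_univ_two, h0]

end Cfsg.Agent.Lib.GL2Chars37
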